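import Mathlib.FieldTheory.IsAlgClosed.AlgebraicClosure
import Mathlib.RingTheory.Flat.Basic
import Mathlib.RingTheory.AdjoinRoot
import Mathlib.FieldTheory.Perfect
import Mathlib.RingTheory.Jacobson.Ring
import Mathlib.RingTheory.FiniteStability

/-! Functions whose two pull backs agree at all points. -/

set_option autoImplicit false

universe u

open scoped TensorProduct
open Polynomial

namespace Groth.Agent.ConstFib

/-- Over a perfect field only scalars have nilpotent `s ⊗ 1 - 1 ⊗ s`. -/
theorem mem_range_of_isNilpotent {K L : Type u} [Field K] [PerfectField K] [Field L] [Algebra K L] (s : L)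
    (hs : IsNilpotent (s ⊗ₜ[K] (1 : L) - (1 : L) ⊗ₜ[K] s)) : s ∈ Set.range (algebraMap K L) := by
  classical
  have key : ∀ {E Ω : Type u} [CommRing E] [Algebra K E] [CommRing Ω] [Algebra K Ω] [IsReduced Ω]
      (ι : E →ₐ[K] L), Function.Injective ι → ∀ e : E, ι e = s → ∀ σ τ : E →ₐ[K] Ω, σ e = τ e := by
    intro E Ω _ _ _ _ _ ι hι e he σ τ
    have hinj : Function.Injective (Algebra.TensorProduct.map ι ι) :=
      TensorProduct.map_injective_of_flat_flat ι.toLinearMap ι.toLinearMap hι hι
    have hn : IsNilpotent (e ⊗ₜ[K] (1 : E) - (1 : E) ⊗ₜ[K] e) := by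
      obtain ⟨N, hN⟩ := hs
      refine ⟨N, hinj ?_⟩
      rw [map_pow, map_sub, Algebra.TensorProduct.map_tmul, Algebra.TensorProduct.map_tmul, map_one, he, hN,
        map_zero]
    have h0 := (hn.map (Algebra.TensorProduct.productMap σ τ)).eq_zero
    simpa [sub_eq_zero] using h0
  by_cases halg : IsIntegral K s
  · set p := minpoly K s with hp
    haveI : Fact (Irreducible p) := ⟨minpoly.irreducible halg⟩
    let ι : AdjoinRoot p →ₐ[K] L := AdjoinRoot.liftAlgHom p (Algebra.ofId K L) s (minpoly.aeval K s)
    let Ω := AlgebraicClosure K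
    have hroot : ∀ a b : Ω, aeval a p = 0 → aeval b p = 0 → a = b := fun a b ha hb ↦ by
      have := key ι ι.toRingHom.injective (AdjoinRoot.root p) (AdjoinRoot.liftAlgHom_root _ _ _ _)
        (AdjoinRoot.liftAlgHom p (Algebra.ofId K Ω) a ha) (AdjoinRoot.liftAlgHom p (Algebra.ofId K Ω) b hb)
      simpa using this
    have hsep : p.Separable := PerfectField.separable_of_irreducible (minpoly.irreducible halg)
    have hcard := Polynomial.card_rootSet_eq_natDegree (K := Ω) hsep (IsAlgClosed.splits _)
    have hsub : Subsingleton (p.rootSet Ω) := ⟨fun a b ↦ Subtype.ext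
      (hroot a b (Polynomial.mem_rootSet.mp a.2).2 (Polynomial.mem_rootSet.mp b.2).2)⟩
    have hdeg : p.natDegree ≤ 1 := by
      rw [← hcard]
      exact Fintype.card_le_one_iff_subsingleton.mpr hsub
    have hdeg1 : p.natDegree = 1 := le_antisymm hdeg (minpoly.natDegree_pos halg)
    exact minpoly.natDegree_eq_one_iff.mp hdeg1
  · exfalso
    have halg' : Transcendental K s := fun h ↦ halg h.isIntegral
    have h := key (aeval s) (transcendental_iff_injective.mp halg') X (aeval_X s)
      (AlgHom.id K K[X]) (aeval (0 : K[X]))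
    simp at h

/-- An element of a finitely generated algebra over an algebraically closed field killed by all points is
nilpotent. -/
theorem isNilpotent_of_forall_point {k R : Type u} [Field k] [IsAlgClosed k] [CommRing R] [Algebra k R]
    [Algebra.FiniteType k R] (d : R) (h : ∀ χ : R →ₐ[k] k, χ d = 0) : IsNilpotent d := by
  haveI : IsJacobsonRing R := isJacobsonRing_of_finiteType (A := k)
  rw [← mem_nilradical]
  show d ∈ (⊥ : Ideal R).radical
  rw [Ideal.radical_eq_jacobson, Ideal.jacobson, Ideal.mem_sInf]
  rintro m ⟨-, hm⟩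
  haveI := hm
  letI : Field (R ⧸ m) := Ideal.Quotient.field m
  haveI : Algebra.FiniteType k (R ⧸ m) :=
    Algebra.FiniteType.of_surjective (Ideal.Quotient.mkₐ k m) Ideal.Quotient.mk_surjective
  haveI : Module.Finite k (R ⧸ m) := finite_of_finite_type_of_isJacobsonRing k (R ⧸ m)
  let e := (AlgEquiv.ofBijective (Algebra.ofId k (R ⧸ m)) (IsAlgClosed.algebraMap_bijective_of_isIntegral))
  have := h (e.symm.toAlgHom.comp (Ideal.Quotient.mkₐ k m))
  exact Ideal.Quotient.eq_zero_iff_mem.mp (e.symm.injective (this.trans (map_zero _).symm))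

end Groth.Agent.ConstFib
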