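import Groth.Agent.ConstFib.Field
import Groth.Agent.CDivNormal.Basic
import Mathlib.AlgebraicGeometry.FunctionField

/-! A function constant on the fibres of a surjection onto a normal variety descends. -/

set_option autoImplicit false
set_option backward.isDefEq.respectTransparency false
set_option backward.isDefEq.respectTransparency.types false

universe u

open CategoryTheory AlgebraicGeometry TopologicalSpace Opposite
open scoped TensorProduct

namespace Groth.Agent.ConstFib

variable {X Y : Scheme.{u}} [IsIntegral X] [IsIntegral Y]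

theorem genericPoint_map_of_surjective (f : X ⟶ Y) (hf : Function.Surjective f.base) :
    f (genericPoint X) = genericPoint Y := by
  have h : IsGenericPoint (f (genericPoint X)) (Set.univ : Set Y) := by
    rw [IsGenericPoint, Set.eq_univ_iff_forall]
    intro y
    obtain ⟨x, rfl⟩ := hf y
    exact ((genericPoint_spec X).specializes trivial).map f.continuous |>.mem_closure
  exact h.eq (genericPoint_spec Y)

/-- The map of function fields of a dominant morphism. -/
noncomputable def ffMap (f : X ⟶ Y) (hη : f (genericPoint X) = genericPoint Y) :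
    Y.functionField →+* X.functionField :=
  (Y.presheaf.stalkSpecializes (specializes_of_eq hη) ≫ f.stalkMap (genericPoint X)).hom

theorem ffMap_algebraMap (f : X ⟶ Y) (hη : f (genericPoint X) = genericPoint Y) (x : X)
    (a : Y.presheaf.stalk (f x)) :
    ffMap f hη (algebraMap (Y.presheaf.stalk (f x)) Y.functionField a) =
      algebraMap (X.presheaf.stalk x) X.functionField (f.stalkMap x a) := by
  change (Y.presheaf.stalkSpecializes _ ≫ f.stalkMap _) (Y.presheaf.stalkSpecializes _ a) = _
  rw [← CommRingCat.comp_apply, ← Category.assoc, TopCat.Presheaf.stalkSpecializes_comp]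
  exact Scheme.Hom.stalkSpecializes_stalkMap_apply f _ _ ((genericPoint_spec X).specializes trivial) a

theorem ffMap_germ (f : X ⟶ Y) (hη : f (genericPoint X) = genericPoint Y) (U : Y.Opens)
    (hU : genericPoint Y ∈ U) (hX : genericPoint X ∈ f ⁻¹ᵁ U) (r : Γ(Y, U)) :
    ffMap f hη (Y.presheaf.germ U (genericPoint Y) hU r) =
      X.presheaf.germ (f ⁻¹ᵁ U) (genericPoint X) hX (f.app U r) := by
  simp only [ffMap, CommRingCat.hom_comp, RingHom.comp_apply, TopCat.Presheaf.germ_stalkSpecializes_apply]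
  exact Scheme.Hom.germ_stalkMap_apply f U (genericPoint X) hX r

/-- The value of a function is in the function field of the base. -/
theorem exists_ffMap_eq {k : Type u} [Field k] [IsAlgClosed k] [CharZero k]
    (qX : X ⟶ Spec (CommRingCat.of k)) (qY : Y ⟶ Spec (CommRingCat.of k))
    [LocallyOfFiniteType qX] (f : X ⟶ Y) (hf : f ≫ qY = qX) (hη : f (genericPoint X) = genericPoint Y)
    (s : Γ(X, ⊤))
    (hs : ∀ x₁ x₂ : Spec (CommRingCat.of k) ⟶ X, x₁ ≫ qX = 𝟙 _ → x₂ ≫ qX = 𝟙 _ →
      x₁ ≫ f = x₂ ≫ f → x₁.appTop.hom s = x₂.appTop.hom s) :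
    ∃ t : Y.functionField, ffMap f hη t = X.presheaf.germ ⊤ (genericPoint X) trivial s := by
  obtain ⟨_, ⟨U, hU, rfl⟩, hgU, -⟩ := Y.isBasis_affineOpens.exists_subset_of_mem_open
    (Set.mem_univ (genericPoint Y)) isOpen_univ
  change Y.Opens at U
  obtain ⟨V, hV, hgV, hVU⟩ := exists_isAffineOpen_mem_and_subset (x := genericPoint X) (U := f ⁻¹ᵁ U)
    (show f (genericPoint X) ∈ U from hη.symm ▸ hgU)
  let sA := (Scheme.ΓSpecIso (CommRingCat.of k)).inv ≫ qY.appLE ⊤ U le_top
  let sB := (Scheme.ΓSpecIso (CommRingCat.of k)).inv ≫ qX.appLE ⊤ V le_top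
  letI algkA : Algebra k Γ(Y, U) := sA.hom.toAlgebra
  letI algkB : Algebra k Γ(X, V) := sB.hom.toAlgebra
  let φ := f.appLE U V hVU
  letI algAB : Algebra Γ(Y, U) Γ(X, V) := φ.hom.toAlgebra
  haveI : IsScalarTower k Γ(Y, U) Γ(X, V) := IsScalarTower.of_algebraMap_eq fun c ↦ by
    show sB.hom c = φ.hom (sA.hom c)
    simp only [sA, sB, φ, CommRingCat.hom_comp, RingHom.comp_apply]
    subst hf
    rw [← CommRingCat.comp_apply (qY.appLE _ _ _) (f.appLE _ _ _), Scheme.Hom.appLE_comp_appLE]
  haveI : Algebra.FiniteType k Γ(X, V) := by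
    rw [← RingHom.finiteType_algebraMap]
    show sB.hom.FiniteType
    simp only [sB, CommRingCat.hom_comp]
    exact (LocallyOfFiniteType.finiteType_appLE qX (isAffineOpen_top _) hV le_top).comp
      (RingHom.FiniteType.of_surjective _
        (ConcreteCategory.bijective_of_isIso (Scheme.ΓSpecIso (CommRingCat.of k)).inv).2)
  haveI : Algebra.FiniteType Γ(Y, U) Γ(X, V) := Algebra.FiniteType.of_restrictScalars_finiteType k _ _
  haveI : Algebra.FiniteType k (Γ(X, V) ⊗[Γ(Y, U)] Γ(X, V)) :=
    Algebra.FiniteType.trans (R := k) (S := Γ(X, V)) inferInstance inferInstance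
  let sV : Γ(X, V) := X.presheaf.map (homOfLE (le_top : V ≤ ⊤)).op s
  let d := sV ⊗ₜ[Γ(Y, U)] (1 : Γ(X, V)) - (1 : Γ(X, V)) ⊗ₜ[Γ(Y, U)] sV
  have hd : IsNilpotent d := isNilpotent_of_forall_point (k := k) d fun χ ↦ by
    let χ₁ : Γ(X, V) →+* k := χ.toRingHom.comp Algebra.TensorProduct.includeLeftRingHom
    let χ₂ : Γ(X, V) →+* k :=
      χ.toRingHom.comp (Algebra.TensorProduct.includeRight (R := Γ(Y, U)) (A := Γ(X, V))).toRingHom
    have hA : χ₁.comp φ.hom = χ₂.comp φ.hom := RingHom.ext fun a ↦ congrArg χ (by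
      show algebraMap Γ(Y, U) Γ(X, V) a ⊗ₜ[Γ(Y, U)] (1 : Γ(X, V)) =
        (1 : Γ(X, V)) ⊗ₜ[Γ(Y, U)] algebraMap Γ(Y, U) Γ(X, V) a
      rw [Algebra.algebraMap_eq_smul_one, TensorProduct.smul_tmul])
    have hk1 : χ₁.comp sB.hom = RingHom.id k := RingHom.ext fun c ↦ (χ.commutes c)
    have hk2 : χ₂.comp sB.hom = RingHom.id k := by
      rw [show sB.hom = φ.hom.comp (algebraMap k Γ(Y, U)) from (IsScalarTower.algebraMap_eq k Γ(Y, U) Γ(X, V)),
        ← RingHom.comp_assoc, ← hA, RingHom.comp_assoc]
      exact (congrArg χ₁.comp (IsScalarTower.algebraMap_eq k Γ(Y, U) Γ(X, V)).symm).trans hk1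
    let pt : (Γ(X, V) →+* k) → (Spec (CommRingCat.of k) ⟶ X) := fun ψ ↦
      Spec.map (CommRingCat.ofHom ψ) ≫ hV.fromSpec
    have hpt : ∀ ψ : Γ(X, V) →+* k, ψ.comp sB.hom = RingHom.id k → pt ψ ≫ qX = 𝟙 _ := by
      intro ψ hψ
      simp only [pt, Category.assoc, ← (isAffineOpen_top (Spec (CommRingCat.of k))).SpecMap_appLE_fromSpec qX hV le_top]
      rw [IsAffineOpen.fromSpec_top, Scheme.isoSpec_Spec_inv, ← Spec.map_comp, ← Spec.map_comp, ← Spec.map_id]
      congr 1
      ext c
      exact congr($hψ c)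
    have hval : ∀ ψ : Γ(X, V) →+* k,
        (Scheme.ΓSpecIso (CommRingCat.of k)).hom ((pt ψ).appTop s) = ψ sV := by
      intro ψ
      simp only [pt, Scheme.Hom.comp_appTop, CommRingCat.comp_apply]
      rw [← CommRingCat.comp_apply, Scheme.ΓSpecIso_naturality, CommRingCat.comp_apply]
      congr 1
      rw [Scheme.Hom.appTop, IsAffineOpen.fromSpec_app_of_le hV ⊤ le_top]
      simp [sV]
      refine (congr($(Scheme.ΓSpecIso_naturality (X.presheaf.map (homOfLE (le_top : V ≤ ⊤)).op))
        ((Scheme.ΓSpecIso Γ(X, ⊤)).inv s))).trans ?_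
      simp
    have h12 := congrArg (Scheme.ΓSpecIso (CommRingCat.of k)).hom
      (hs (pt χ₁) (pt χ₂) (hpt _ hk1) (hpt _ hk2) (by
        simp only [pt, Category.assoc, ← hU.SpecMap_appLE_fromSpec f hV hVU, ← Spec.map_comp_assoc]
        congr 2
        ext a
        exact congr($hA a)))
    rw [hval, hval] at h12
    rw [map_sub]
    exact sub_eq_zero.mpr h12
  letI algK : Algebra Y.functionField X.functionField := (ffMap f hη).toAlgebra
  letI algAK : Algebra Γ(Y, U) Y.functionField := (Y.presheaf.germ U (genericPoint Y) hgU).hom.toAlgebra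
  letI algAL : Algebra Γ(Y, U) X.functionField := ((ffMap f hη).comp (algebraMap Γ(Y, U) Y.functionField)).toAlgebra
  haveI : IsScalarTower Γ(Y, U) Y.functionField X.functionField := IsScalarTower.of_algebraMap_eq fun _ ↦ rfl
  let g : Γ(X, V) →ₐ[Γ(Y, U)] X.functionField :=
    { toRingHom := (X.presheaf.germ V (genericPoint X) hgV).hom
      commutes' := fun a ↦ by
        show X.presheaf.germ V _ hgV (f.appLE U V hVU a) = ffMap f hη (Y.presheaf.germ U _ hgU a)
        rw [ffMap_germ f hη U hgU (show f (genericPoint X) ∈ U from hη.symm ▸ hgU) a, Scheme.Hom.appLE,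
          CommRingCat.comp_apply, TopCat.Presheaf.germ_res_apply] }
  let G : Γ(X, V) ⊗[Γ(Y, U)] Γ(X, V) →ₐ[Γ(Y, U)] X.functionField ⊗[Y.functionField] X.functionField :=
    Algebra.TensorProduct.productMap
      (((Algebra.TensorProduct.includeLeft (R := Y.functionField) (S := Y.functionField)
        (A := X.functionField) (B := X.functionField)).restrictScalars Γ(Y, U)).comp g)
      (((Algebra.TensorProduct.includeRight (R := Y.functionField)
        (A := X.functionField) (B := X.functionField)).restrictScalars Γ(Y, U)).comp g)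
  have hG := hd.map G
  have he : g sV = X.presheaf.germ ⊤ (genericPoint X) trivial s :=
    show X.presheaf.germ V (genericPoint X) hgV (X.presheaf.map _ s) = _ by
      rw [TopCat.Presheaf.germ_res_apply]
  simp only [d, G, map_sub, Algebra.TensorProduct.productMap_apply_tmul, map_one, one_mul, mul_one,
    AlgHom.comp_apply, AlgHom.restrictScalars_apply, Algebra.TensorProduct.includeLeft_apply,
    Algebra.TensorProduct.includeRight_apply, he] at hG
  haveI : CharZero Y.functionField := charZero_of_injective_ringHom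
    ((Y.presheaf.germ U (genericPoint Y) hgU).hom.comp (algebraMap k Γ(Y, U))).injective
  obtain ⟨t, ht⟩ := mem_range_of_isNilpotent _ hG
  exact ⟨t, ht⟩

/-- Descent of a function constant on fibres. -/
theorem exists_app_eq [IsLocallyNoetherian Y] (hY : Pi1.IsNormalScheme Y) (f : X ⟶ Y)
    (hf : Function.Surjective f.base) (hη : f (genericPoint X) = genericPoint Y) (s : Γ(X, ⊤))
    (t : Y.functionField) (ht : ffMap f hη t = X.presheaf.germ ⊤ (genericPoint X) trivial s) :
    ∃ r : Γ(Y, ⊤), f.appTop r = s := by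
  have hstalk : ∀ y : Y, ∃ a, algebraMap (Y.presheaf.stalk y) Y.functionField a = t := by
    intro y
    refine CDivNormal.mem_range_of_codim_one hY t y fun y' _ hy' ↦ ?_
    haveI := CDivNormal.isDVR hY y' hy'
    rcases ValuationRing.isInteger_or_isInteger (Y.presheaf.stalk y') t with h | h
    · exact h
    obtain ⟨a, ha⟩ := h
    obtain ⟨x, rfl⟩ := hf y'
    by_cases ht0 : t = 0
    · exact ⟨0, by rw [map_zero, ht0]⟩
    have hu : IsUnit (f.stalkMap x a) := by
      refine IsUnit.of_mul_eq_one (X.presheaf.germ ⊤ x trivial s) ?_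
      apply IsFractionRing.injective (X.presheaf.stalk x) X.functionField
      rw [map_mul, map_one, ← ffMap_algebraMap f hη x a, ha,
        show algebraMap (X.presheaf.stalk x) X.functionField (X.presheaf.germ ⊤ x trivial s) =
          X.presheaf.germ ⊤ (genericPoint X) trivial s from
          TopCat.Presheaf.germ_stalkSpecializes_apply (F := X.presheaf) (U := ⊤) trivial
            ((genericPoint_spec X).specializes trivial) s, ← ht, ← map_mul, inv_mul_cancel₀ ht0, map_one]
    obtain ⟨a', rfl⟩ := isUnit_of_map_unit (f.stalkMap x).hom a hu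
    refine ⟨(a'⁻¹ : (Y.presheaf.stalk (f x))ˣ), ?_⟩
    rw [map_units_inv, ha, inv_inv]
  have hloc : ∀ y : Y, ∃ (W : Y.Opens) (r : Γ(Y, W)), y ∈ W ∧
      ∀ hW : genericPoint Y ∈ W, Y.presheaf.germ W (genericPoint Y) hW r = t := by
    intro y
    obtain ⟨a, ha⟩ := hstalk y
    obtain ⟨W, hyW, r, rfl⟩ := Y.presheaf.exists_germ_eq a
    exact ⟨W, r, hyW, fun hW ↦ (TopCat.Presheaf.germ_stalkSpecializes_apply _ _ _ _).symm.trans ha⟩
  choose W r hyW hr using hloc
  have hgen : ∀ (U : Y.Opens), (U : Set Y).Nonempty → genericPoint Y ∈ U :=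
    fun U ⟨z, hz⟩ ↦ ((genericPoint_spec Y).specializes trivial).mem_open U.2 hz
  obtain ⟨R, hR, -⟩ := TopCat.Sheaf.existsUnique_gluing' Y.sheaf W ⊤ (fun _ ↦ homOfLE le_top)
    (fun y _ ↦ Opens.mem_iSup.mpr ⟨y, hyW y⟩) r (fun y z ↦ by
      by_cases hne : ((W y ⊓ W z : Y.Opens) : Set Y).Nonempty
      · have hgn := hgen _ hne
        refine germ_injective_of_isIntegral Y (genericPoint Y) hgn ?_
        exact (TopCat.Presheaf.germ_res_apply _ _ _ _ _).trans
          (((hr y hgn.1).trans (hr z hgn.2).symm).trans (TopCat.Presheaf.germ_res_apply _ _ _ _ _).symm)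
      · refine Y.sheaf.eq_of_locally_eq' (fun i : PEmpty.{u + 1} ↦ i.elim) _ (fun i ↦ i.elim)
          (fun w hw ↦ (hne ⟨w, hw⟩).elim) _ _ fun i ↦ i.elim)
  refine ⟨R, germ_injective_of_isIntegral X (genericPoint X) (U := ⊤) trivial ?_⟩
  rw [← ht]
  have hgY : genericPoint Y ∈ W (genericPoint Y) := hyW _
  have hRt : Y.presheaf.germ ⊤ (genericPoint Y) trivial R = t := by
    have h1 := hR (genericPoint Y)
    rw [← hr (genericPoint Y) hgY, ← h1]
    exact (TopCat.Presheaf.germ_res_apply Y.presheaf _ _ _ _).symm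
  rw [← hRt, ffMap_germ f hη ⊤ trivial trivial R]
  rfl

end Groth.Agent.ConstFib
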